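import Groth.Agent.Lefpen.H879.Lin
import Groth.Agent.Sga5.ProjSurj
import Mathlib.AlgebraicGeometry.ProjectiveSpectrum.Functor
import Mathlib.Algebra.MvPolynomial.Funext
import Groth.Agent.Ega2.H291.MapZero

/-!
# Linear automorphisms of projective space

* `sub L`: linear substitution in polynomials, `eval v (sub L P) = eval (L v) P`.
* `aut L : P^r ≅ P^r` for a linear automorphism `L` of `k^(r+1)`.
* `comap_hypIdeal : (hypIdeal G).comap (aut L).hom = hypIdeal (subForm L G)`.
* `hypIso`: the hypersurfaces of `G` and `subForm L G` are isomorphic.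
-/

set_option autoImplicit false
universe u

open CategoryTheory AlgebraicGeometry Limits TopologicalSpace Opposite

namespace Groth.Agent.Lefpen.H170.LinAut

open LefPen Groth.Agent.Divis.IdealComap Groth.Agent.Fdesc.LocGen Groth.Agent.Lefpen.H705.HypIdeal
open Groth.Agent.Lefpen.H705.SecIdeal Groth.Agent.Lefpen.H879.Lin

variable {r : ℕ} {k : Type u} [Field k]

section Sub

/-- Linear substitution. -/
noncomputable def sub (L : (Fin (r + 1) → k) →ₗ[k] (Fin (r + 1) → k)) :
    MvPolynomial (Fin (r + 1)) k →ₐ[k] MvPolynomial (Fin (r + 1)) k :=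
  MvPolynomial.aeval fun i => ∑ l, MvPolynomial.C (L (Pi.single l 1) i) * MvPolynomial.X l

theorem sub_X (L : (Fin (r + 1) → k) →ₗ[k] (Fin (r + 1) → k)) (i : Fin (r + 1)) :
    sub L (MvPolynomial.X i) = ∑ l, MvPolynomial.C (L (Pi.single l 1) i) * MvPolynomial.X l :=
  MvPolynomial.aeval_X _ _

theorem eval_sub (L : (Fin (r + 1) → k) →ₗ[k] (Fin (r + 1) → k)) (v : Fin (r + 1) → k)
    (P : MvPolynomial (Fin (r + 1)) k) : MvPolynomial.eval v (sub L P) = MvPolynomial.eval (L v) P := by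
  have h : (MvPolynomial.eval v).comp (sub L : MvPolynomial (Fin (r + 1)) k →+* _) = MvPolynomial.eval (L v) := by
    apply MvPolynomial.ringHom_ext
    · intro c
      simp [sub]
    · intro i
      rw [RingHom.comp_apply]
      change MvPolynomial.eval v (sub L (MvPolynomial.X i)) = _
      rw [sub_X, map_sum, MvPolynomial.eval_X]
      conv_rhs => rw [LinearMap.pi_apply_eq_sum_univ L v, Finset.sum_apply]
      refine Finset.sum_congr rfl fun l _ => ?_
      rw [map_mul, MvPolynomial.eval_C, MvPolynomial.eval_X, Pi.smul_apply, smul_eq_mul, mul_comm]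
      have h3 : (Pi.single l 1 : Fin (r + 1) → k) = fun j => if l = j then 1 else 0 := by
        funext m
        simp [Pi.single_apply, eq_comm]
      rw [h3]
  exact congr($h P)

theorem sub_isHomogeneous (L : (Fin (r + 1) → k) →ₗ[k] (Fin (r + 1) → k)) {d : ℕ}
    {P : MvPolynomial (Fin (r + 1)) k} (hP : P.IsHomogeneous d) : (sub L P).IsHomogeneous d := by
  have h := hP.aeval (fun i => ∑ l, MvPolynomial.C (L (Pi.single l 1) i) * MvPolynomial.X l) (n := 1)
    (fun i => MvPolynomial.IsHomogeneous.sum _ _ _ fun l _ => by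
      simpa using (MvPolynomial.isHomogeneous_C (Fin (r + 1)) (L (Pi.single l 1) i)).mul
        (MvPolynomial.isHomogeneous_X k l))
  rwa [one_mul] at h

theorem sub_sub [Infinite k] (L M : (Fin (r + 1) → k) →ₗ[k] (Fin (r + 1) → k)) (h : L ∘ₗ M = LinearMap.id)
    (P : MvPolynomial (Fin (r + 1)) k) : sub M (sub L P) = P := by
  refine MvPolynomial.funext fun v => ?_
  rw [eval_sub, eval_sub]
  exact congr(MvPolynomial.eval ($h v) P)

/-- Linear substitution in a form. -/
noncomputable def subForm (L : (Fin (r + 1) → k) →ₗ[k] (Fin (r + 1) → k)) {d : ℕ} (G : Form r k d) : Form r k d :=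
  ⟨sub L G.1, (MvPolynomial.mem_homogeneousSubmodule _ _).2
    (sub_isHomogeneous L ((MvPolynomial.mem_homogeneousSubmodule _ _).1 G.2))⟩

/-- The graded ring homomorphism. -/
noncomputable def grHom (L : (Fin (r + 1) → k) →ₗ[k] (Fin (r + 1) → k)) :
    CohB1.polyGrading r k →+*ᵍ CohB1.polyGrading r k where
  toRingHom := (sub L : MvPolynomial (Fin (r + 1)) k →+* _)
  map_mem := fun {_ _} hx => (MvPolynomial.mem_homogeneousSubmodule _ _).2
    (sub_isHomogeneous L ((MvPolynomial.mem_homogeneousSubmodule _ _).1 hx))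

theorem grHom_apply (L : (Fin (r + 1) → k) →ₗ[k] (Fin (r + 1) → k)) (P : MvPolynomial (Fin (r + 1)) k) :
    grHom L P = sub L P := rfl

end Sub

variable [Infinite k]

theorem degSurj (L : (Fin (r + 1) → k) ≃ₗ[k] (Fin (r + 1) → k)) :
    Groth.Agent.Sga5.ProjSurj.DegSurj (grHom (L : (Fin (r + 1) → k) →ₗ[k] (Fin (r + 1) → k))) := by
  intro i b hb
  refine ⟨sub (L.symm : (Fin (r + 1) → k) →ₗ[k] (Fin (r + 1) → k)) b,
    (MvPolynomial.mem_homogeneousSubmodule _ _).2 (sub_isHomogeneous _ ((MvPolynomial.mem_homogeneousSubmodule _ _).1 hb)),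
    ?_⟩
  rw [grHom_apply]
  exact sub_sub _ _ (by ext1 x; simp) b

/-- The morphism of projective spaces attached to a linear automorphism. -/
noncomputable def autHom (L : (Fin (r + 1) → k) ≃ₗ[k] (Fin (r + 1) → k)) :
    CohB1.ProjSpace r k ⟶ CohB1.ProjSpace r k :=
  Proj.map (grHom (L : (Fin (r + 1) → k) →ₗ[k] (Fin (r + 1) → k)))
    (Groth.Agent.Sga5.ProjSurj.irrelevant_le_map (degSurj L))

omit [Infinite k] in
theorem map_congr {f g : CohB1.polyGrading r k →+*ᵍ CohB1.polyGrading r k} (h : f = g)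
    (hf : HomogeneousIdeal.irrelevant (CohB1.polyGrading r k) ≤ (HomogeneousIdeal.irrelevant (CohB1.polyGrading r k)).map f)
    (hg : HomogeneousIdeal.irrelevant (CohB1.polyGrading r k) ≤ (HomogeneousIdeal.irrelevant (CohB1.polyGrading r k)).map g) :
    Proj.map f hf = Proj.map g hg := by
  subst h
  rfl

theorem autHom_comp (L M : (Fin (r + 1) → k) ≃ₗ[k] (Fin (r + 1) → k))
    (h : (M : (Fin (r + 1) → k) →ₗ[k] (Fin (r + 1) → k)) ∘ₗ (L : (Fin (r + 1) → k) →ₗ[k] (Fin (r + 1) → k)) =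
      LinearMap.id) : autHom L ≫ autHom M = 𝟙 _ := by
  have h1 := Proj.map_comp (grHom (M : (Fin (r + 1) → k) →ₗ[k] (Fin (r + 1) → k)))
    (grHom (L : (Fin (r + 1) → k) →ₗ[k] (Fin (r + 1) → k)))
    (Groth.Agent.Sga5.ProjSurj.irrelevant_le_map (degSurj M))
    (Groth.Agent.Sga5.ProjSurj.irrelevant_le_map (degSurj L))
  have h2 : (grHom (L : (Fin (r + 1) → k) →ₗ[k] (Fin (r + 1) → k))).comp
      (grHom (M : (Fin (r + 1) → k) →ₗ[k] (Fin (r + 1) → k))) = GradedRingHom.id _ := by
    apply GradedRingHom.ext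
    intro P
    exact sub_sub _ _ h P
  refine h1.symm.trans ((map_congr h2 _ (by simp)).trans ?_)
  exact Proj.map_id

/-- The automorphism of projective space attached to a linear automorphism. -/
noncomputable def aut (L : (Fin (r + 1) → k) ≃ₗ[k] (Fin (r + 1) → k)) :
    CohB1.ProjSpace r k ≅ CohB1.ProjSpace r k where
  hom := autHom L
  inv := autHom L.symm
  hom_inv_id := autHom_comp L L.symm (by ext1 x; simp)
  inv_hom_id := autHom_comp L.symm L (by ext1 x; simp)

theorem mem_preimage_chart (L : (Fin (r + 1) → k) ≃ₗ[k] (Fin (r + 1) → k)) (j : Fin (r + 1))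
    {U : (CohB1.ProjSpace r k).Opens} (hU : U ≤ autHom L ⁻¹ᵁ chart r k j) (p : U) (n : ℕ) :
    (sub (L : (Fin (r + 1) → k) →ₗ[k] (Fin (r + 1) → k)) (MvPolynomial.X j)) ^ n ∈
      (ProjectiveSpectrum.asHomogeneousIdeal p.1).toIdeal.primeCompl := by
  intro h
  have h1 := (ProjectiveSpectrum.isPrime p.1).mem_of_pow_mem _ h
  exact (hU p.2) h1

/-- The value of `φ^*(G / T_j^d)` at a point of the inverse image of `D_+(T_j)`. -/
theorem eqn_val (L : (Fin (r + 1) → k) ≃ₗ[k] (Fin (r + 1) → k)) {d : ℕ} (G : Form r k d) (j : Fin (r + 1))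
    {U : (CohB1.ProjSpace r k).Opens} (hU : U ≤ autHom L ⁻¹ᵁ chart r k j) (p : U) :
    ((eqn (autHom L) j U hU G).1 p).val =
      Localization.mk (sub (L : (Fin (r + 1) → k) →ₗ[k] (Fin (r + 1) → k)) G.1)
        ⟨sub (L : (Fin (r + 1) → k) →ₗ[k] (Fin (r + 1) → k)) (MvPolynomial.X j) ^ d,
          mem_preimage_chart L j hU p d⟩ := by
  have h1 : (eqn (autHom L) j U hU G).1 p =
      HomogeneousLocalization.localRingHom (grHom (L : (Fin (r + 1) → k) →ₗ[k] (Fin (r + 1) → k))) _
        p.1.asHomogeneousIdeal.toIdeal rfl ((dehom G j).1 ⟨autHom L p.1, hU p.2⟩) := rfl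
  rw [h1, HomogeneousLocalization.val_localRingHom]
  refine (congrArg _ (dehom_val G j ⟨autHom L p.1, hU p.2⟩)).trans ?_
  refine (Localization.localRingHom_mk _ _ _ _ _ _).trans ?_
  congr 1
  apply Subtype.ext
  exact map_pow (sub (L : (Fin (r + 1) → k) →ₗ[k] (Fin (r + 1) → k))) (MvPolynomial.X j) d

omit [Infinite k] in
theorem ores_dehom_val {d : ℕ} (G : Form r k d) (l : Fin (r + 1)) {U : (CohB1.ProjSpace r k).Opens}
    (hU : U ≤ chart r k l) (p : U) : ((ores hU (dehom G l)).1 p).val =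
      Localization.mk G.1 ⟨MvPolynomial.X l ^ d, pow_mem_primeCompl l ⟨p.1, hU p.2⟩ d⟩ := by
  rw [ores_val]
  exact dehom_val G l ⟨p.1, hU p.2⟩

theorem span_eqn (L : (Fin (r + 1) → k) ≃ₗ[k] (Fin (r + 1) → k)) {d : ℕ} (G : Form r k d) (j l : Fin (r + 1))
    (U : (CohB1.ProjSpace r k).Opens) (hj : U ≤ autHom L ⁻¹ᵁ chart r k j) (hl : U ≤ chart r k l) :
    Ideal.span {eqn (autHom L) j U hj G} =
      Ideal.span {ores hl (dehom (subForm (L : (Fin (r + 1) → k) →ₗ[k] (Fin (r + 1) → k)) G) l)} := by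
  set L' : (Fin (r + 1) → k) →ₗ[k] (Fin (r + 1) → k) := (L : (Fin (r + 1) → k) →ₗ[k] (Fin (r + 1) → k)) with hL'
  set M' : (Fin (r + 1) → k) →ₗ[k] (Fin (r + 1) → k) := (L.symm : (Fin (r + 1) → k) →ₗ[k] (Fin (r + 1) → k))
  let Xf : (i : Fin (r + 1)) → Form r k 1 := fun i => ⟨MvPolynomial.X i, X_mem r k i⟩
  -- `t = ℓ_j / X_l`
  let t : Γ(CohB1.ProjSpace r k, U) := ores hl (dehom (subForm L' (Xf j)) l)
  -- `s = X_l / ℓ_j`
  let s : Γ(CohB1.ProjSpace r k, U) := eqn (autHom L) j U hj (subForm M' (Xf l))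
  have hLM : sub L' (sub M' (MvPolynomial.X l)) = MvPolynomial.X l :=
    sub_sub M' L' (by ext1 x; simp [M', hL']) _
  have hts : t * s = 1 := by
    refine section_ext _ _ fun p => ?_
    have h1 : ((t * s).1 p).val = (t.1 p).val * (s.1 p).val := by
      change ((t.1 p) * (s.1 p)).val = _
      rw [HomogeneousLocalization.val_mul]
    have h2 : ((1 : Γ(CohB1.ProjSpace r k, U)).1 p).val = 1 :=
      HomogeneousLocalization.val_one (x := (ProjectiveSpectrum.asHomogeneousIdeal p.1).toIdeal.primeCompl)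
        (𝒜 := CohB1.polyGrading r k)
    rw [h1, h2, ores_dehom_val, eqn_val, Localization.mk_mul, ← Localization.mk_one,
      Localization.mk_eq_mk_iff, Localization.r_iff_exists]
    refine ⟨1, ?_⟩
    simp only [OneMemClass.coe_one, Submonoid.coe_mul, pow_one, one_mul]
    change sub L' (MvPolynomial.X j) * sub L' (sub M' (MvPolynomial.X l)) = _
    rw [hLM]
    ring
  have htu : IsUnit t := IsUnit.of_mul_eq_one _ hts
  have key : ores hl (dehom (subForm L' G) l) = t ^ d * eqn (autHom L) j U hj G := by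
    refine section_ext _ _ fun p => ?_
    have h1 : ((t ^ d * eqn (autHom L) j U hj G).1 p).val = (t.1 p).val ^ d * ((eqn (autHom L) j U hj G).1 p).val := by
      change (((t.1 p) ^ d) * ((eqn (autHom L) j U hj G).1 p)).val = _
      rw [HomogeneousLocalization.val_mul, HomogeneousLocalization.val_pow]
    rw [h1, ores_dehom_val, ores_dehom_val, eqn_val, Localization.mk_pow, Localization.mk_mul,
      Localization.mk_eq_mk_iff, Localization.r_iff_exists]
    refine ⟨1, ?_⟩
    simp only [OneMemClass.coe_one, Submonoid.coe_mul, SubmonoidClass.mk_pow, pow_one, one_mul]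
    change (MvPolynomial.X l ^ d * sub L' (MvPolynomial.X j) ^ d) * sub L' G.1 =
      MvPolynomial.X l ^ d * (sub L' (MvPolynomial.X j) ^ d * sub L' G.1)
    ring
  rw [key]
  exact (Ideal.span_singleton_mul_left_unit (htu.pow d) _).symm

/-- Inverse images of hypersurfaces under linear automorphisms. -/
theorem comap_hypIdeal (L : (Fin (r + 1) → k) ≃ₗ[k] (Fin (r + 1) → k)) {d : ℕ} (G : Form r k d) :
    (hypIdeal G).comap (autHom L) = hypIdeal (subForm (L : (Fin (r + 1) → k) →ₗ[k] (Fin (r + 1) → k)) G) := by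
  refine ext_of_forall_mem fun x => ?_
  have h1 : autHom L x ∈ (⊤ : (CohB1.ProjSpace r k).Opens) := trivial
  rw [← iSup_chart (r := r) (k := k)] at h1
  obtain ⟨j, hj⟩ := Opens.mem_iSup.mp h1
  have h2 : x ∈ (⊤ : (CohB1.ProjSpace r k).Opens) := trivial
  rw [← iSup_chart (r := r) (k := k)] at h2
  obtain ⟨l, hl⟩ := Opens.mem_iSup.mp h2
  obtain ⟨U, hU, hxU, hle⟩ := exists_isAffineOpen_mem_and_subset
    (U := (autHom L ⁻¹ᵁ chart r k j) ⊓ chart r k l) (x := x) ⟨hj, hl⟩
  have hUj : U ≤ autHom L ⁻¹ᵁ chart r k j := fun y hy => (hle hy).1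
  have hUl : U ≤ chart r k l := fun y hy => (hle hy).2
  refine ⟨⟨U, hU⟩, hxU, ?_⟩
  rw [comap_hypIdeal_ideal_of_le (autHom L) G j ⟨U, hU⟩ hUj, hypIdeal_ideal_of_le _ l ⟨U, hU⟩ hUl]
  exact span_eqn L G j l U hUj hUl

theorem autHom_toSpec (L : (Fin (r + 1) → k) ≃ₗ[k] (Fin (r + 1) → k)) :
    autHom L ≫ CohB1.ProjSpace.toSpec r k = CohB1.ProjSpace.toSpec r k :=
  Groth.Agent.Ega2.H291.MapZero.map_toSpec _ _ fun c =>
    (sub (L : (Fin (r + 1) → k) →ₗ[k] (Fin (r + 1) → k))).commutes c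

/-- The hypersurfaces of `G` and of `G ∘ L` are isomorphic, compatibly with the automorphism of projective space. -/
theorem exists_hypIso (L : (Fin (r + 1) → k) ≃ₗ[k] (Fin (r + 1) → k)) {d : ℕ} (G : Form r k d) :
    ∃ e : (hypIdeal (subForm (L : (Fin (r + 1) → k) →ₗ[k] (Fin (r + 1) → k)) G)).subscheme ≅
        (hypIdeal G).subscheme,
      e.hom ≫ (hypIdeal G).subschemeι =
        (hypIdeal (subForm (L : (Fin (r + 1) → k) →ₗ[k] (Fin (r + 1) → k)) G)).subschemeι ≫ autHom L := by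
  rw [← comap_hypIdeal]
  have h1 : IsIso (autHom L) := (aut L).isIso_hom
  refine ⟨(hypIdeal G).comapIso (autHom L) ≪≫ asIso (pullback.snd (autHom L) (hypIdeal G).subschemeι), ?_⟩
  rw [Iso.trans_hom, asIso_hom, Category.assoc, ← pullback.condition, Scheme.IdealSheafData.comapIso_hom_fst_assoc]

end Groth.Agent.Lefpen.H170.LinAut
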