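import Mathlib.LinearAlgebra.QuadraticForm.Basic
import Mathlib.FieldTheory.IsAlgClosed.Basic
import Mathlib.LinearAlgebra.FiniteDimensional.Lemmas
import Mathlib.Tactic.LinearCombination

/-!
# Quadratic forms in an even number of variables over an algebraically closed field (all characteristics)

If no nonzero isotropic vector is orthogonal to everything, the form is a sum of hyperbolic planes.
-/

set_option autoImplicit false

namespace Groth.Agent.Lefpen.H170.QuadLin

open QuadraticMap Module

universe u v

variable {k : Type u} [Field k]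

section

variable {V : Type v} [AddCommGroup V] [Module k V]

theorem quad_add_smul (q : QuadraticForm k V) (a b : V) (x : k) :
    q (b + x • a) = q b + x * polar q b a + x * x * q a := by
  have h1 := QuadraticMap.map_add q b (x • a)
  rw [h1, QuadraticMap.map_smul, QuadraticMap.polar_smul_right, smul_eq_mul, smul_eq_mul]
  ring

/-- An isotropic vector. -/
theorem exists_isotropic [IsAlgClosed k] [FiniteDimensional k V] (q : QuadraticForm k V) (h : 2 ≤ finrank k V) :
    ∃ v : V, v ≠ 0 ∧ q v = 0 := by
  have hnt : Nontrivial V := Module.nontrivial_of_finrank_pos (R := k) (by omega)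
  obtain ⟨a, ha⟩ := exists_ne (0 : V)
  by_cases hqa : q a = 0
  · exact ⟨a, ha, hqa⟩
  have hlt : Submodule.span k {a} ≠ ⊤ := by
    intro htop
    have h1 := finrank_span_singleton (K := k) ha
    rw [htop, finrank_top] at h1
    omega
  obtain ⟨b, hb⟩ : ∃ b : V, b ∉ Submodule.span k {a} := by
    by_contra hcon
    push Not at hcon
    exact hlt (eq_top_iff.2 fun x _ => hcon x)
  let p : Polynomial k := Polynomial.C (q a) * Polynomial.X ^ 2 + Polynomial.C (polar q b a) * Polynomial.X +
    Polynomial.C (q b)
  have hp : p.degree = 2 := Polynomial.degree_quadratic hqa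
  obtain ⟨x, hx⟩ := IsAlgClosed.exists_root p (by rw [hp]; norm_num)
  refine ⟨b + x • a, ?_, ?_⟩
  · intro h0
    apply hb
    rw [Submodule.mem_span_singleton]
    exact ⟨-x, by rw [neg_smul]; exact (eq_neg_of_add_eq_zero_left h0).symm⟩
  · rw [quad_add_smul]
    have h2 : p.eval x = 0 := hx
    simp only [p, Polynomial.eval_add, Polynomial.eval_mul, Polynomial.eval_C, Polynomial.eval_pow,
      Polynomial.eval_X] at h2
    linear_combination h2

/-- A hyperbolic pair. -/
theorem exists_hyperbolic (q : QuadraticForm k V) (v : V) (hv : q v = 0) (h : ∃ w, polar q v w ≠ 0) :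
    ∃ w, polar q v w = 1 ∧ q w = 0 := by
  obtain ⟨w, hw⟩ := h
  set w₁ : V := (polar q v w)⁻¹ • w with hw₁
  have h1 : polar q v w₁ = 1 := by
    rw [hw₁, QuadraticMap.polar_smul_right, smul_eq_mul, inv_mul_cancel₀ hw]
  refine ⟨w₁ + (-(q w₁)) • v, ?_, ?_⟩
  · rw [QuadraticMap.polar_add_right, h1, QuadraticMap.polar_smul_right, QuadraticMap.polar_self, hv]
    simp
  · rw [quad_add_smul, QuadraticMap.polar_comm, h1, hv]
    ring

end

/-- The classification. -/
theorem exists_split [IsAlgClosed k] (n : ℕ) : ∀ (V : Type v) [AddCommGroup V] [Module k V] [FiniteDimensional k V]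
    (q : QuadraticForm k V), finrank k V = 2 * n → (∀ v : V, v ≠ 0 → q v = 0 → ∃ w, polar q v w ≠ 0) →
    ∃ L : (Fin n ⊕ Fin n → k) ≃ₗ[k] V, ∀ x, q (L x) = ∑ i, x (Sum.inl i) * x (Sum.inr i) := by
  induction n with
  | zero =>
    intro V _ _ _ q hV _
    have hs : Subsingleton V := Module.finrank_zero_iff.1 (by simpa using hV)
    have hfin : finrank k (Fin 0 ⊕ Fin 0 → k) = finrank k V := by
      rw [hV, Module.finrank_fintype_fun_eq_card]
      simp
    refine ⟨LinearEquiv.ofFinrankEq _ _ hfin, fun x => ?_⟩
    rw [Subsingleton.elim ((LinearEquiv.ofFinrankEq _ _ hfin : (Fin 0 ⊕ Fin 0 → k) ≃ₗ[k] V) x) 0, QuadraticMap.map_zero]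
    simp
  | succ n ih =>
    intro V _ _ _ q hV hq
    obtain ⟨v, hv0, hv⟩ := exists_isotropic q (by omega)
    obtain ⟨w, hvw, hw⟩ := exists_hyperbolic q v hv (hq v hv0 hv)
    -- the orthogonal complement of the hyperbolic plane
    let B := QuadraticMap.polarBilin q
    have hB : ∀ x y, B x y = polar q x y := fun x y => rfl
    let T : V →ₗ[k] k × k := (B w).prod (B v)
    have hT : ∀ x, T x = (polar q w x, polar q v x) := fun x => rfl
    have hwv : polar q w v = 1 := by rw [QuadraticMap.polar_comm, hvw]
    have hvv : polar q v v = 0 := by rw [QuadraticMap.polar_self, hv, smul_zero]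
    have hww : polar q w w = 0 := by rw [QuadraticMap.polar_self, hw, smul_zero]
    have hTs : LinearMap.range T = ⊤ := by
      rw [eq_top_iff]
      rintro ⟨a, b⟩ -
      refine ⟨a • v + b • w, ?_⟩
      rw [hT, QuadraticMap.polar_add_right, QuadraticMap.polar_add_right, QuadraticMap.polar_smul_right,
        QuadraticMap.polar_smul_right, QuadraticMap.polar_smul_right, QuadraticMap.polar_smul_right, hwv, hww, hvv, hvw]
      simp
    let W : Submodule k V := LinearMap.ker T
    have hWmem : ∀ x : V, x ∈ W ↔ polar q w x = 0 ∧ polar q v x = 0 := by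
      intro x
      rw [LinearMap.mem_ker, hT, Prod.mk_eq_zero]
    have hWdim : finrank k W = 2 * n := by
      have h1 := LinearMap.finrank_range_add_finrank_ker T
      rw [hTs, finrank_top, Module.finrank_prod, Module.finrank_self, hV] at h1
      change 1 + 1 + finrank k W = _ at h1
      omega
    let qW : QuadraticForm k W := q.comp W.subtype
    have hpW : ∀ x y : W, polar qW x y = polar q (x : V) (y : V) := fun x y => rfl
    -- decomposition
    have hdec : ∀ y : V, ∃ (a b : k) (y' : W), y = a • v + b • w + y' := by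
      intro y
      refine ⟨polar q w y, polar q v y, ⟨y - (polar q w y • v + polar q v y • w), ?_⟩, by simp⟩
      rw [hWmem]
      constructor
      · rw [sub_eq_add_neg, QuadraticMap.polar_add_right, QuadraticMap.polar_neg_right,
          QuadraticMap.polar_add_right, QuadraticMap.polar_smul_right, QuadraticMap.polar_smul_right, hwv, hww]
        simp
      · rw [sub_eq_add_neg, QuadraticMap.polar_add_right, QuadraticMap.polar_neg_right,
          QuadraticMap.polar_add_right, QuadraticMap.polar_smul_right, QuadraticMap.polar_smul_right, hvv, hvw]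
        simp
    obtain ⟨L, hL⟩ := ih W qW hWdim (by
      intro x hx hqx
      obtain ⟨y, hy⟩ := hq (x : V) (fun h => hx (Subtype.ext h)) hqx
      obtain ⟨a, b, y', rfl⟩ := hdec y
      refine ⟨y', ?_⟩
      rw [hpW]
      intro h0
      apply hy
      have hx' := (hWmem x).1 x.2
      rw [QuadraticMap.polar_add_right, QuadraticMap.polar_add_right, QuadraticMap.polar_smul_right,
        QuadraticMap.polar_smul_right, QuadraticMap.polar_comm _ (x : V) v, QuadraticMap.polar_comm _ (x : V) w,
        hx'.1, hx'.2, h0]
      simp)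
    -- the linear map
    let P : (Fin (n + 1) ⊕ Fin (n + 1) → k) →ₗ[k] (Fin n ⊕ Fin n → k) :=
      LinearMap.funLeft k k (Sum.map Fin.succ Fin.succ)
    let F : (Fin (n + 1) ⊕ Fin (n + 1) → k) →ₗ[k] V :=
      (LinearMap.proj (Sum.inl 0)).smulRight v + (LinearMap.proj (Sum.inr 0)).smulRight w +
        W.subtype ∘ₗ L.toLinearMap ∘ₗ P
    have hF : ∀ x, F x = x (Sum.inl 0) • v + x (Sum.inr 0) • w + ((L (P x) : W) : V) := fun x => rfl
    have hpolF : ∀ (a b : k) (y : W), polar q w (a • v + b • w + y) = a ∧ polar q v (a • v + b • w + y) = b := by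
      intro a b y
      have hy := (hWmem y).1 y.2
      constructor
      · rw [QuadraticMap.polar_add_right, QuadraticMap.polar_add_right, QuadraticMap.polar_smul_right,
          QuadraticMap.polar_smul_right, hwv, hww, hy.1]
        simp
      · rw [QuadraticMap.polar_add_right, QuadraticMap.polar_add_right, QuadraticMap.polar_smul_right,
          QuadraticMap.polar_smul_right, hvv, hvw, hy.2]
        simp
    have hinj : Function.Injective F := by
      rw [injective_iff_map_eq_zero]
      intro x hx
      rw [hF] at hx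
      have h1 := hpolF (x (Sum.inl 0)) (x (Sum.inr 0)) (L (P x))
      rw [hx, QuadraticMap.polar_zero_right, QuadraticMap.polar_zero_right] at h1
      rw [← h1.1, ← h1.2, zero_smul, zero_smul, zero_add, zero_add] at hx
      have h2 : P x = 0 := by
        have h3 : L (P x) = 0 := Subtype.ext hx
        exact L.map_eq_zero_iff.1 h3
      funext i
      rcases i with i | i
      · refine Fin.cases ?_ (fun i => ?_) i
        · exact h1.1.symm
        · exact congrFun h2 (Sum.inl i)
      · refine Fin.cases ?_ (fun i => ?_) i
        · exact h1.2.symm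
        · exact congrFun h2 (Sum.inr i)
    have hdim : finrank k (Fin (n + 1) ⊕ Fin (n + 1) → k) = finrank k V := by
      rw [hV, Module.finrank_fintype_fun_eq_card, Fintype.card_sum, Fintype.card_fin]
      ring
    let E : (Fin (n + 1) ⊕ Fin (n + 1) → k) ≃ₗ[k] V := LinearEquiv.ofInjectiveOfFinrankEq F hinj hdim
    refine ⟨E, fun x => ?_⟩
    have hE : E x = F x := rfl
    rw [hE, hF]
    have h1 : q (x (Sum.inl 0) • v + x (Sum.inr 0) • w + ((L (P x) : W) : V)) =
        x (Sum.inl 0) * x (Sum.inr 0) + qW (L (P x)) := by
      have hy := (hWmem (L (P x))).1 (L (P x)).2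
      rw [QuadraticMap.map_add q, QuadraticMap.polar_add_left, QuadraticMap.polar_smul_left,
        QuadraticMap.polar_smul_left, hy.1, hy.2, QuadraticMap.map_add q, QuadraticMap.map_smul, QuadraticMap.map_smul,
        hv, hw, QuadraticMap.polar_smul_left, QuadraticMap.polar_smul_right, hvw]
      simp only [smul_eq_mul]
      change _ = _ + q _
      simp
    rw [h1, hL, Fin.sum_univ_succ]
    rfl

end Groth.Agent.Lefpen.H170.QuadLin
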