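import Groth.Agent.Lefpen.H170.LinAut
import Groth.Agent.Lefpen.H170.QuadLin
import Groth.Agent.Lefpen.H705.Quadric
import Groth.Agent.Lefpen.H720.TangentAny
import Groth.Agent.Lefpen.H720.QuadPoly

/-!
# Smooth quadrics of even dimension over an algebraically closed field are split (all characteristics)
-/

set_option autoImplicit false
universe u

open CategoryTheory AlgebraicGeometry Limits TopologicalSpace Opposite

namespace Groth.Agent.Lefpen.H170.QuadNF

open LefPen Groth.Agent.Lefpen.H170.LinAut Groth.Agent.Lefpen.H705.Quadric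

section Reindex

variable {M : Type*} [AddCommMonoid M]

/-- The first half of the indices. -/
def c (n m : ℕ) (h : m + 1 = 2 * n) (i : Fin n) : Fin (m + 1) := ⟨i, by omega⟩

theorem sum_half (n m : ℕ) (h : m + 1 = 2 * n) (f : Fin (m + 1) → M) :
    ∑ i ∈ Finset.univ.filter (fun i : Fin (m + 1) => i ≤ i.rev), f i = ∑ i : Fin n, f (c n m h i) := by
  symm
  refine Finset.sum_bij (fun i _ => c n m h i) ?_ ?_ ?_ ?_
  · intro i _
    rw [Finset.mem_filter]
    refine ⟨Finset.mem_univ _, ?_⟩
    rw [Fin.le_def, Fin.val_rev]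
    change (i : ℕ) ≤ _ - ((i : ℕ) + 1)
    have := i.2
    omega
  · intro i _ j _ hij
    have := congrArg Fin.val hij
    exact Fin.ext this
  · intro i hi
    rw [Finset.mem_filter, Fin.le_def, Fin.val_rev] at hi
    have h1 := hi.2
    exact ⟨⟨i, by omega⟩, Finset.mem_univ _, rfl⟩
  · intro i _
    rfl

/-- The reindexing `Fin n ⊕ Fin n ≃ Fin (m + 1)`. -/
noncomputable def e (n m : ℕ) (h : m + 1 = 2 * n) : Fin n ⊕ Fin n ≃ Fin (m + 1) :=
  Equiv.ofBijective (Sum.elim (c n m h) fun i => (c n m h i).rev) (by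
    rw [Fintype.bijective_iff_injective_and_card]
    refine ⟨?_, by simp; omega⟩
    refine Function.Injective.sumElim ?_ ?_ ?_
    · intro i j hij
      have h1 : (c n m h i : ℕ) = c n m h j := congrArg Fin.val hij
      exact Fin.ext h1
    · intro i j hij
      have h0 : c n m h i = c n m h j := Fin.rev_injective hij
      have h1 : (c n m h i : ℕ) = c n m h j := congrArg Fin.val h0
      exact Fin.ext h1
    · intro i j hij
      have h1 := congrArg Fin.val hij
      rw [Fin.val_rev] at h1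
      change (i : ℕ) = _ - ((j : ℕ) + 1) at h1
      have := i.2
      have := j.2
      omega)

end Reindex

variable {k : Type u} [Field k] [IsAlgClosed k]

/-- Linear algebra: a form without singular zeros in `m + 1 = 2 n` variables is equivalent to the split form. -/
theorem exists_linear (n m : ℕ) (h : m + 1 = 2 * n) (Q : MvPolynomial (Fin (m + 1)) k) (hQ : Q.IsHomogeneous 2)
    (hs : ∀ v : Fin (m + 1) → k, v ≠ 0 → MvPolynomial.eval v Q = 0 →
      ∃ l, MvPolynomial.eval v (MvPolynomial.pderiv l Q) ≠ 0) :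
    ∃ L : (Fin (m + 1) → k) ≃ₗ[k] (Fin (m + 1) → k), ∀ v,
      MvPolynomial.eval (L v) Q = MvPolynomial.eval v (splitPoly k m) := by
  obtain ⟨q, hq, hpol⟩ := H720.QuadPoly.hasQF hQ
  obtain ⟨L, hL⟩ := QuadLin.exists_split n (Fin (m + 1) → k) q (by
      rw [Module.finrank_fintype_fun_eq_card, Fintype.card_fin, h]) (by
      intro v hv hqv
      rw [hq] at hqv
      obtain ⟨l, hl⟩ := hs v hv hqv
      refine ⟨Pi.single l 1, ?_⟩
      rw [hpol, Finset.sum_eq_single l]
      · rwa [Pi.single_eq_same, one_mul]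
      · intro b _ hb
        rw [Pi.single_eq_of_ne hb, zero_mul]
      · intro h'
        exact absurd (Finset.mem_univ _) h')
  refine ⟨(LinearEquiv.funCongrLeft k k (e n m h)).trans L, fun v => ?_⟩
  rw [← hq]
  change q (L (LinearEquiv.funCongrLeft k k (e n m h) v)) = _
  rw [hL]
  have h1 : MvPolynomial.eval v (splitPoly k m) =
      ∑ i ∈ Finset.univ.filter (fun i : Fin (m + 1) => i ≤ i.rev), v i * v i.rev := by
    rw [splitPoly, map_sum]
    refine Finset.sum_congr rfl fun i _ => ?_
    rw [map_mul, MvPolynomial.eval_X, MvPolynomial.eval_X]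
  rw [h1, sum_half n m h (fun i => v i * v i.rev)]
  rfl

/-- The split quadric, with all compatibilities. -/
theorem exists_iso_split (j : ℕ) (Q : LefPen.Form (2 * j + 1) k 2)
    [SmoothOfRelativeDimension (2 * j) ((LefPen.hypIdeal Q).subschemeι ≫ CohB1.ProjSpace.toSpec (2 * j + 1) k)] :
    ∃ i : (LefPen.hypIdeal Q).subscheme ≅
      (LefPen.hypIdeal (splitForm k (2 * j + 1))).subscheme,
      i.hom ≫ (LefPen.hypIdeal (splitForm k (2 * j + 1))).subschemeι ≫ CohB1.ProjSpace.toSpec (2 * j + 1) k =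
        (LefPen.hypIdeal Q).subschemeι ≫ CohB1.ProjSpace.toSpec (2 * j + 1) k := by
  have hinf : Infinite k := IsAlgClosed.instInfinite
  obtain ⟨L, hL⟩ := exists_linear (k := k) (j + 1) (2 * j + 1) (by ring) Q.1
    ((MvPolynomial.mem_homogeneousSubmodule _ _).1 Q.2)
    (fun v hv h0 => H720.TangentAny.exists_pderiv_ne_zero (2 * j) (by omega) Q v hv h0)
  have h1 : subForm (L : (Fin (2 * j + 1 + 1) → k) →ₗ[k] (Fin (2 * j + 1 + 1) → k)) Q =
      splitForm k (2 * j + 1) := by
    apply Subtype.ext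
    refine MvPolynomial.funext fun v => ?_
    exact (eval_sub _ v Q.1).trans (hL v)
  have h2 := exists_hypIso L Q
  rw [h1] at h2
  obtain ⟨i, hi⟩ := h2
  refine ⟨i.symm, ?_⟩
  rw [Iso.symm_hom, Iso.inv_comp_eq, ← Category.assoc i.hom, hi, Category.assoc, autHom_toSpec]

theorem nonempty_iso_split (k : Type u) [Field k] [IsAlgClosed k] (j : ℕ) (Q : LefPen.Form (2 * j + 1) k 2)
    [SmoothOfRelativeDimension (2 * j) ((LefPen.hypIdeal Q).subschemeι ≫ CohB1.ProjSpace.toSpec (2 * j + 1) k)] :
    Nonempty ((LefPen.hypIdeal Q).subscheme ≅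
      (LefPen.hypIdeal (Groth.Agent.Lefpen.H705.Quadric.splitForm k (2 * j + 1))).subscheme) := by
  obtain ⟨i, -⟩ := exists_iso_split j Q
  exact ⟨i⟩

end Groth.Agent.Lefpen.H170.QuadNF
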